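import Cfsg.Agent.Helper96.L34.CertE.Data
set_option autoImplicit false
set_option maxRecDepth 1000000
namespace Cfsg.Agent.Helper96.L34.CertE
open Cfsg.Agent.Helper28
theorem defs_ok : checkDefs tabs = true := by decide +kernel
theorem fin_ok : checkFin tabs ptabs 32341 = true := by decide +kernel
theorem inv_ok : invOk ptabs = true := by decide +kernel
theorem par_ok : parOk ptabs = true := by decide +kernel
theorem subfix_ok : allLt (fun r => relOk ptabs (tabs.word r) 0 1) 2 = true := by decide +kernel
end Cfsg.Agent.Helper96.L34.CertE
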