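import Cfsg.Agent.Helper96.L34.CertE.Facts0
import Cfsg.Agent.Helper96.L34.CertE.Facts1
import Cfsg.Agent.Helper96.L34.CertE.Facts2
import Cfsg.Agent.Helper96.L34.CertE.Facts3
import Cfsg.Agent.Helper96.L34.CertE.Facts4
import Cfsg.Agent.Helper96.L34.CertE.Facts5
import Cfsg.Agent.Helper96.L34.CertE.Facts6
import Cfsg.Agent.Helper96.L34.CertE.Facts7
import Cfsg.Agent.Helper96.L34.CertE.Facts8
import Cfsg.Agent.Helper96.L34.CertE.Facts9
import Cfsg.Agent.Helper96.L34.CertE.Facts10
import Cfsg.Agent.Helper96.L34.CertE.Facts11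
import Cfsg.Agent.Helper96.L34.CertE.Facts12
import Cfsg.Agent.Helper96.L34.CertE.Misc
import Cfsg.Agent.Helper96.L34.CertE.Perm0
import Cfsg.Agent.Helper96.L34.CertE.Perm1
import Cfsg.Agent.Helper96.L34.CertE.Perm2
import Cfsg.Agent.Helper96.L34.CertE.Perm3
import Cfsg.Agent.Helper96.L34.CertE.Perm4
set_option autoImplicit false
namespace Cfsg.Agent.Helper96.L34.CertE
open Cfsg.Agent.Helper28
theorem perm_all : ∀ r, 2 ≤ r → r < 57 → relOk ptabs (tabs.word r) 0 ptabs.n = true := by
  intro r h1 h2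
  by_cases c14 : r < 14
  · exact permRange_sound ptabs tabs.word letTr.get 12 4095 perm_eq 2 12 perm_ok_2 r (by omega) (by omega)
  by_cases c26 : r < 26
  · exact permRange_sound ptabs tabs.word letTr.get 12 4095 perm_eq 14 12 perm_ok_14 r (by omega) (by omega)
  by_cases c38 : r < 38
  · exact permRange_sound ptabs tabs.word letTr.get 12 4095 perm_eq 26 12 perm_ok_26 r (by omega) (by omega)
  by_cases c50 : r < 50
  · exact permRange_sound ptabs tabs.word letTr.get 12 4095 perm_eq 38 12 perm_ok_38 r (by omega) (by omega)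
  by_cases c57 : r < 57
  · exact permRange_sound ptabs tabs.word letTr.get 12 4095 perm_eq 50 7 perm_ok_50 r (by omega) (by omega)
  omega
theorem subfix_all : ∀ r, r < 2 → relOk ptabs (tabs.word r) 0 1 = true := allLt_sound _ _ subfix_ok
end Cfsg.Agent.Helper96.L34.CertE
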